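import Mathlib

set_option autoImplicit false
set_option linter.unusedSectionVars false
set_option linter.unusedVariables false
universe v u
open CategoryTheory CategoryTheory.Limits HomologicalComplex

namespace Groth.Agent.Lib.Helper5.KFlatG

section ZeroColim

variable {A : Type u} [Category.{v} A] [HasZeroMorphisms A]

/-- a sequential colimit with zero transition maps is zero -/
lemma isZero_colimit_of_map_eq_zero (G : ℕ ⥤ A) [HasColimit G]
    (h : ∀ k : ℕ, G.map (homOfLE (Nat.le_succ k)) = 0) : IsZero (colimit G) := by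
  rw [IsZero.iff_id_eq_zero]
  apply colimit.hom_ext
  intro k
  rw [Category.comp_id, comp_zero, ← colimit.w G (homOfLE (Nat.le_succ k)), h, zero_comp]

end ZeroColim

section MapSC

variable {J : Type*} [Category J] {C : Type u} [Category.{v} C] [Abelian C]
  [HasColimitsOfShape J C] [HasExactColimitsOfShape J C]
  (S : ShortComplex (J ⥤ C))
  {c₁ : Cocone S.X₁} (hc₁ : IsColimit c₁) (c₂ : Cocone S.X₂) (hc₂ : IsColimit c₂)
  (c₃ : Cocone S.X₃) (hc₃ : IsColimit c₃)
  (f : c₁.pt ⟶ c₂.pt) (g : c₂.pt ⟶ c₃.pt)
  (hf : ∀ j, c₁.ι.app j ≫ f = S.f.app j ≫ c₂.ι.app j)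
  (hg : ∀ j, c₂.ι.app j ≫ g = S.g.app j ≫ c₃.ι.app j)

include hc₂ hc₃ in
/-- variant of `colim.exact_mapShortComplex`: it suffices that the colimit of the homology
vanishes -/
lemma exact_mapShortComplex_of_isZero (hS : IsZero (colimit S.homology)) :
    (colim.mapShortComplex S hc₁ c₂ c₃ f g hf hg).Exact := by
  have h1 : (S.map colim).Exact := by
    rw [ShortComplex.exact_iff_isZero_homology]
    exact IsZero.of_iso hS (S.mapHomologyIso colim)
  refine (ShortComplex.exact_iff_of_iso ?_).2 h1
  refine ShortComplex.isoMk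
    (IsColimit.coconePointUniqueUpToIso hc₁ (colimit.isColimit _))
    (IsColimit.coconePointUniqueUpToIso hc₂ (colimit.isColimit _))
    (IsColimit.coconePointUniqueUpToIso hc₃ (colimit.isColimit _))
    (hc₁.hom_ext (fun j ↦ ?_)) (hc₂.hom_ext (fun j ↦ ?_))
  · show c₁.ι.app j ≫ (IsColimit.coconePointUniqueUpToIso hc₁ (colimit.isColimit _)).hom ≫
        colimMap S.f = c₁.ι.app j ≫ f ≫
          (IsColimit.coconePointUniqueUpToIso hc₂ (colimit.isColimit _)).hom
    rw [IsColimit.comp_coconePointUniqueUpToIso_hom_assoc,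
      colimit.cocone_ι, ι_colimMap, reassoc_of% (hf j),
      IsColimit.comp_coconePointUniqueUpToIso_hom, colimit.cocone_ι]
  · show c₂.ι.app j ≫ (IsColimit.coconePointUniqueUpToIso hc₂ (colimit.isColimit _)).hom ≫
        colimMap S.g = c₂.ι.app j ≫ g ≫
          (IsColimit.coconePointUniqueUpToIso hc₃ (colimit.isColimit _)).hom
    rw [IsColimit.comp_coconePointUniqueUpToIso_hom_assoc,
      colimit.cocone_ι, ι_colimMap, reassoc_of% (hg j),
      IsColimit.comp_coconePointUniqueUpToIso_hom, colimit.cocone_ι]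

end MapSC

section Tower

variable {A : Type u} [Category.{v} A] [Abelian A]
  [HasColimitsOfShape ℕ A] [HasExactColimitsOfShape ℕ A]

/-- the short complex of functors in degree `i` attached to a tower of complexes -/
@[simps]
def towerSC (D : ℕ ⥤ CochainComplex A ℤ) (i : ℤ) : ShortComplex (ℕ ⥤ A) :=
  ShortComplex.mk
    ({ app := fun j => (D.obj j).d (i - 1) i
       naturality := fun j j' φ => ((D.map φ).comm (i - 1) i) } :
      D ⋙ eval A _ (i - 1) ⟶ D ⋙ eval A _ i)
    ({ app := fun j => (D.obj j).d i (i + 1)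
       naturality := fun j j' φ => ((D.map φ).comm i (i + 1)) } :
      D ⋙ eval A _ i ⟶ D ⋙ eval A _ (i + 1))
    (by ext j; exact (D.obj j).d_comp_d _ _ _)

lemma homologyMap_sc'_eq_zero {K L : CochainComplex A ℤ} (φ : K ⟶ L) (i : ℤ)
    (h : HomologicalComplex.homologyMap φ i = 0) :
    ShortComplex.homologyMap
      ((shortComplexFunctor' A (ComplexShape.up ℤ) (i - 1) i (i + 1)).map φ) = 0 := by
  let ι := natIsoSc' A (ComplexShape.up ℤ) (i - 1) i (i + 1) (by simp) (by simp)
  have e := ι.hom.naturality φ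
  have e2 : ShortComplex.homologyMap ((shortComplexFunctor A (ComplexShape.up ℤ) i).map φ) ≫
      ShortComplex.homologyMap (ι.hom.app L) = ShortComplex.homologyMap (ι.hom.app K) ≫
      ShortComplex.homologyMap
        ((shortComplexFunctor' A (ComplexShape.up ℤ) (i - 1) i (i + 1)).map φ) := by
    rw [← ShortComplex.homologyMap_comp, ← ShortComplex.homologyMap_comp, e]
  have h' : ShortComplex.homologyMap ((shortComplexFunctor A (ComplexShape.up ℤ) i).map φ) = 0 := h
  rw [h', zero_comp] at e2
  have : IsIso (ShortComplex.homologyMap (ι.hom.app K)) := inferInstance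
  rw [← cancel_epi (ShortComplex.homologyMap (ι.hom.app K)), ← e2, comp_zero]

/-- a sequential colimit of complexes whose transition maps vanish on homology is acyclic -/
theorem acyclic_of_isColimit_of_homologyMap_eq_zero (D : ℕ ⥤ CochainComplex A ℤ) (c : Cocone D)
    (hc : IsColimit c)
    (h : ∀ (k : ℕ) (i : ℤ), HomologicalComplex.homologyMap (D.map (homOfLE (Nat.le_succ k))) i = 0)
    (i : ℤ) : IsZero (c.pt.homology i) := by
  rw [← exactAt_iff_isZero_homology, c.pt.exactAt_iff' (i - 1) i (i + 1) (by simp) (by simp)]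
  have hz : IsZero (colimit (towerSC D i).homology) := by
    apply isZero_colimit_of_map_eq_zero
    intro k
    have e := NatTrans.app_homology ((evaluation ℕ A).map (homOfLE (Nat.le_succ k))) (towerSC D i)
    have e' : (towerSC D i).homology.map (homOfLE (Nat.le_succ k)) = _ := e
    rw [e']
    have hm : ShortComplex.homologyMap
        ((towerSC D i).mapNatTrans ((evaluation ℕ A).map (homOfLE (Nat.le_succ k)))) = 0 :=
      homologyMap_sc'_eq_zero (D.map (homOfLE (Nat.le_succ k))) i (h k i)
    rw [hm, zero_comp, comp_zero]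
  exact exact_mapShortComplex_of_isZero (towerSC D i)
    (isColimitOfPreserves (eval A _ (i - 1)) hc)
    _ (isColimitOfPreserves (eval A _ i) hc)
    _ (isColimitOfPreserves (eval A _ (i + 1)) hc)
    (c.pt.d (i - 1) i) (c.pt.d i (i + 1))
    (fun j => ((c.ι.app j).comm (i - 1) i))
    (fun j => ((c.ι.app j).comm i (i + 1))) hz

end Tower

end Groth.Agent.Lib.Helper5.KFlatG
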