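import Mathlib

set_option autoImplicit false
set_option linter.unusedSectionVars false
set_option linter.unusedVariables false
universe v u
open CategoryTheory CategoryTheory.Limits HomologicalComplex CochainComplex HomComplex

namespace Groth.Agent.Lib.Helper5.KFlatG

open mappingCone

variable {A : Type u} [Category.{v} A] [Abelian A]

section

variable {K₁ L₁ K₂ L₂ : CochainComplex A ℤ} (φ₁ : K₁ ⟶ L₁) (φ₂ : K₂ ⟶ L₂)
  (a : K₁ ⟶ K₂) (b : L₁ ⟶ L₂) (comm : φ₁ ≫ b = a ≫ φ₂)

@[reassoc]
lemma inl_v_map_f (p q : ℤ) (h : p + (-1) = q) :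
    (inl φ₁).v p q h ≫ (mappingCone.map φ₁ φ₂ a b comm).f q = a.f p ≫ (inl φ₂).v p q h := by
  simp [mappingCone.map]

@[reassoc]
lemma inr_f_map_f (p : ℤ) :
    (inr φ₁).f p ≫ (mappingCone.map φ₁ φ₂ a b comm).f p = b.f p ≫ (inr φ₂).f p := by
  simp [mappingCone.map]

lemma map_congr {a a' : K₁ ⟶ K₂} {b b' : L₁ ⟶ L₂} (ha : a = a') (hb : b = b')
    (comm : φ₁ ≫ b = a ≫ φ₂) :
    mappingCone.map φ₁ φ₂ a b comm = mappingCone.map φ₁ φ₂ a' b' (by rw [← ha, ← hb, comm]) := by
  subst ha hb
  rfl

end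

variable [HasColimitsOfShape ℕ A]
  (D : ℕ ⥤ CochainComplex A ℤ) (c : Cocone D) (hc : IsColimit c) (s : Cocone D)

/-- the tower of mapping cones -/
noncomputable def coneTower : ℕ ⥤ CochainComplex A ℤ where
  obj k := mappingCone (s.ι.app k)
  map {k k'} u := mappingCone.map (s.ι.app k) (s.ι.app k') (D.map u) (𝟙 _)
    (by rw [Category.comp_id, s.w])
  map_id k := by
    rw [map_congr (s.ι.app k) (s.ι.app k) (D.map_id k) rfl]
    exact mappingCone.map_id _
  map_comp {k k' k''} u u' := by
    rw [map_congr (s.ι.app k) (s.ι.app k'') (D.map_comp u u') (Category.comp_id (𝟙 _)).symm]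
    exact mappingCone.map_comp _ _ _ _ _ _ _ _ _

/-- the cocone with point the cone of the map induced on the colimit -/
noncomputable def coneCocone : Cocone (coneTower D s) where
  pt := mappingCone (hc.desc s)
  ι :=
    { app := fun k => mappingCone.map (s.ι.app k) (hc.desc s) (c.ι.app k) (𝟙 _)
        (by rw [Category.comp_id, hc.fac])
      naturality := fun k k' u => by
        dsimp [coneTower]
        refine (mappingCone.map_comp _ _ _ _ _ _ _ _ _).symm.trans ?_
        refine (map_congr _ _ (c.w u) (Category.comp_id _) _).trans ?_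
        exact (Category.comp_id _).symm }

section Termwise

variable (m : ℤ) (t : Cocone (coneTower D s ⋙ eval A (ComplexShape.up ℤ) m))

/-- the leg of `t`, with its type normalized -/
noncomputable def leg (k : ℕ) : (mappingCone (s.ι.app k)).X m ⟶ t.pt := t.ι.app k

lemma leg_w {k k' : ℕ} (u : k ⟶ k') :
    (mappingCone.map (s.ι.app k) (s.ι.app k') (D.map u) (𝟙 _)
      (by rw [Category.comp_id, s.w])).f m ≫ leg D s m t k' = leg D s m t k :=
  t.w u

/-- the cocone over the first summands -/
noncomputable def cocone₁ : Cocone (D ⋙ eval A (ComplexShape.up ℤ) (m + 1)) where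
  pt := t.pt
  ι :=
    { app := fun k => (inl (s.ι.app k)).v (m + 1) m (by omega) ≫ leg D s m t k
      naturality := fun k k' u => by
        have h := leg_w D s m t u
        show (D.map u).f (m + 1) ≫ (inl (s.ι.app k')).v (m + 1) m (by omega) ≫ leg D s m t k' =
          ((inl (s.ι.app k)).v (m + 1) m (by omega) ≫ leg D s m t k) ≫ 𝟙 _
        rw [Category.comp_id, ← h, inl_v_map_f_assoc] }

/-- descent on the first summand -/
noncomputable def d₁ : c.pt.X (m + 1) ⟶ t.pt :=
  (isColimitOfPreserves (eval A (ComplexShape.up ℤ) (m + 1)) hc).desc (cocone₁ D s m t)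

lemma ι_d₁ (k : ℕ) : (c.ι.app k).f (m + 1) ≫ d₁ D c hc s m t =
    (inl (s.ι.app k)).v (m + 1) m (by omega) ≫ leg D s m t k :=
  (isColimitOfPreserves (eval A (ComplexShape.up ℤ) (m + 1)) hc).fac (cocone₁ D s m t) k

include hc in
lemma d₁_ext {Z : A} {a b : c.pt.X (m + 1) ⟶ Z}
    (h : ∀ k : ℕ, (c.ι.app k).f (m + 1) ≫ a = (c.ι.app k).f (m + 1) ≫ b) : a = b :=
  (isColimitOfPreserves (eval A (ComplexShape.up ℤ) (m + 1)) hc).hom_ext h

/-- descent on the second summand -/
noncomputable def d₂ : s.pt.X m ⟶ t.pt := (inr (s.ι.app 0)).f m ≫ leg D s m t 0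

/-- the descent map in degree `m` -/
noncomputable def descX : (mappingCone (hc.desc s)).X m ⟶ t.pt :=
  (fst (hc.desc s)).1.v m (m + 1) rfl ≫ d₁ D c hc s m t +
    (snd (hc.desc s)).v m m (add_zero m) ≫ d₂ D s m t

lemma inl_descX :
    (inl (hc.desc s)).v (m + 1) m (by omega) ≫ descX D c hc s m t = d₁ D c hc s m t := by
  simp [descX]

lemma inr_descX :
    (inr (hc.desc s)).f m ≫ descX D c hc s m t = d₂ D s m t := by
  simp [descX]

lemma inr_leg (k : ℕ) : (inr (s.ι.app k)).f m ≫ leg D s m t k = d₂ D s m t := by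
  have h := leg_w D s m t (homOfLE (Nat.zero_le k))
  rw [d₂, ← h, inr_f_map_f_assoc]
  simp

end Termwise

/-- the cone of the induced map on the colimit is the colimit of the cones -/
noncomputable def isColimitConeCocone : IsColimit (coneCocone D c hc s) := by
  refine isColimitOfEval _ _ (fun m => ?_)
  refine
    { desc := fun t => descX D c hc s m t
      fac := fun t k => ?_
      uniq := fun t γ hγ => ?_ }
  · show (mappingCone.map (s.ι.app k) (hc.desc s) (c.ι.app k) (𝟙 _)
      (by rw [Category.comp_id, hc.fac])).f m ≫ descX D c hc s m t = leg D s m t k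
    apply ext_from (s.ι.app k) (m + 1) m rfl
    · rw [inl_v_map_f_assoc, inl_descX, ι_d₁]
    · rw [inr_f_map_f_assoc, inr_descX, inr_leg]
      simp
  · have hγ' : ∀ k, (mappingCone.map (s.ι.app k) (hc.desc s) (c.ι.app k) (𝟙 _)
        (by rw [Category.comp_id, hc.fac])).f m ≫ γ = leg D s m t k := hγ
    apply ext_from (hc.desc s) (m + 1) m rfl
    · rw [inl_descX]
      apply d₁_ext D c hc m
      intro k
      rw [ι_d₁, ← hγ' k, inl_v_map_f_assoc]
    · rw [inr_descX, d₂, ← hγ' 0, inr_f_map_f_assoc]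
      simp

end Groth.Agent.Lib.Helper5.KFlatG
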