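import Mathlib

set_option autoImplicit false
set_option linter.unusedSectionVars false
set_option linter.unusedVariables false
universe v u
open CategoryTheory CategoryTheory.Limits CochainComplex HomComplex

namespace Groth.Agent.Lib.Helper5.KFlatG

open mappingCone

variable {A : Type u} [Category.{v} A] [Abelian A]

/-- a complex with zero differential -/
@[simps]
def zcx (F : ℤ → A) : CochainComplex A ℤ where
  X := F
  d _ _ := 0
  shape _ _ _ := rfl
  d_comp_d' _ _ _ _ _ := zero_comp

lemma homologyMap_eq_zero_of_factor {C C' : CochainComplex A ℤ} (ψ : C ⟶ C') (m' m : ℤ)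
    {F : A} (π : F ⟶ C.cycles m) [Epi π] (k : F ⟶ C'.X m')
    (h : π ≫ C.iCycles m ≫ ψ.f m = k ≫ C'.d m' m) :
    HomologicalComplex.homologyMap ψ m = 0 := by
  rw [← cancel_epi (C.homologyπ m), ← cancel_epi π, comp_zero, comp_zero,
    HomologicalComplex.homologyπ_naturality]
  have h1 : π ≫ HomologicalComplex.cyclesMap ψ m = k ≫ C'.toCycles m' m := by
    rw [← cancel_mono (C'.iCycles m)]
    simp [h]
  rw [reassoc_of% h1, HomologicalComplex.toCycles_comp_homologyπ, comp_zero]

section Step

variable {P X : CochainComplex A ℤ} (f : P ⟶ X) (F : CochainComplex A ℤ)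
  (hd : ∀ i j, F.d i j = 0)
  (π : ∀ n, F.X n ⟶ (mappingCone f).cycles (n - 1))

/-- the cover composed with the inclusion of cycles -/
noncomputable def gg (n : ℤ) : F.X n ⟶ (mappingCone f).X (n - 1) :=
  π n ≫ (mappingCone f).iCycles (n - 1)

@[reassoc (attr := simp)]
lemma gg_d (n m : ℤ) : gg f F π n ≫ (mappingCone f).d (n - 1) m = 0 := by
  simp [gg]

include hd in
/-- the attaching map -/
noncomputable def cellMap : F ⟶ P where
  f n := gg f F π n ≫ (fst f).1.v (n - 1) n (by omega)
  comm' i j hij := by
    rw [hd, zero_comp, Category.assoc]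
    have h := d_fst_v f (i - 1) i j (by omega) hij
    rw [← neg_eq_iff_eq_neg] at h
    rw [← h, Preadditive.comp_neg, gg_d_assoc, zero_comp, neg_zero]

/-- the null-homotopy of the attaching map composed with `f` -/
noncomputable def cellCochain : Cochain F X (-1) :=
  Cochain.mk (fun p q hpq => -(gg f F π p ≫ (snd f).v (p - 1) q (by omega)))

lemma cellCochain_v (n : ℤ) :
    (cellCochain f F π).v n (n - 1) (by omega) =
      -(gg f F π n ≫ (snd f).v (n - 1) (n - 1) (add_zero _)) := rfl

lemma δ_cellCochain :
    δ (-1) 0 (cellCochain f F π) = Cochain.ofHom (cellMap f F hd π ≫ f) := by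
  ext p
  rw [δ_v (-1) 0 (by simp) _ p p (add_zero p) (p - 1) (p + 1) rfl rfl]
  have h := d_snd_v f (p - 1) p (by omega)
  have h2 := gg_d_assoc f F π p p ((snd f).v p p (add_zero p))
  rw [h, Preadditive.comp_add, zero_comp] at h2
  simp only [hd, zero_comp, smul_zero, add_zero, Cochain.ofHom_v, HomologicalComplex.comp_f,
    cellMap, cellCochain, Cochain.mk_v, Preadditive.neg_comp, Category.assoc]
  rw [neg_eq_iff_add_eq_zero, add_comm]
  exact h2

/-- the next stage -/
noncomputable abbrev nextCx : CochainComplex A ℤ := mappingCone (cellMap f F hd π)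

/-- the map from the next stage -/
noncomputable abbrev nextMap : nextCx f F hd π ⟶ X :=
  desc (cellMap f F hd π) (cellCochain f F π) f (δ_cellCochain f F hd π)

/-- the inclusion into the next stage -/
noncomputable abbrev nextι : P ⟶ nextCx f F hd π := inr (cellMap f F hd π)

@[reassoc (attr := simp)]
theorem nextι_nextMap : nextι f F hd π ≫ nextMap f F hd π = f := inr_desc _ _ _ _

/-- the induced map on cones -/
noncomputable abbrev coneMap : mappingCone f ⟶ mappingCone (nextMap f F hd π) :=
  mappingCone.map f (nextMap f F hd π) (nextι f F hd π) (𝟙 X) (by simp)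

theorem homologyMap_coneMap [∀ n, Epi (π n)] (n : ℤ) :
    HomologicalComplex.homologyMap (coneMap f F hd π) (n - 1) = 0 := by
  refine homologyMap_eq_zero_of_factor (coneMap f F hd π) (n - 2) (n - 1) (π n)
    (-((inl (cellMap f F hd π)).v n (n - 1) (by omega) ≫
      (inl (nextMap f F hd π)).v (n - 1) (n - 2) (by omega))) ?_
  have e1 := inl_v_d (nextMap f F hd π) (n - 1) (n - 2) n (by omega) (by omega)
  have e2 := inl_v_d (cellMap f F hd π) n (n - 1) (n + 1) (by omega) (by omega)
  have e3 := inl_v_desc_f (cellMap f F hd π) (cellCochain f F π) f (δ_cellCochain f F hd π) n (n - 1)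
    (by omega)
  have e4 := id_X f (n - 1) n (by omega)
  have e5 : (inl f).v n (n - 1) (by omega) ≫ (coneMap f F hd π).f (n - 1) =
      (nextι f F hd π).f n ≫ (inl (nextMap f F hd π)).v n (n - 1) (by omega) := by
    simp [mappingCone.map]
  have e6 : (inr f).f (n - 1) ≫ (coneMap f F hd π).f (n - 1) = (inr (nextMap f F hd π)).f (n - 1) := by
    simp [mappingCone.map]
  have lhs : π n ≫ (mappingCone f).iCycles (n - 1) ≫ (coneMap f F hd π).f (n - 1) =
      (cellMap f F hd π).f n ≫ (nextι f F hd π).f n ≫ (inl (nextMap f F hd π)).v n (n - 1) (by omega) +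
        (gg f F π n ≫ (snd f).v (n - 1) (n - 1) (add_zero _)) ≫
          (inr (nextMap f F hd π)).f (n - 1) := by
    rw [← Category.assoc]
    change gg f F π n ≫ _ = _
    conv_lhs => rw [← Category.id_comp ((coneMap f F hd π).f (n - 1)), ← e4]
    simp only [Preadditive.add_comp, Preadditive.comp_add, Category.assoc, e5, e6, cellMap]
  rw [lhs]
  simp only [Preadditive.neg_comp, Category.assoc]
  rw [e1, Preadditive.comp_sub, reassoc_of% e3, reassoc_of% e2]
  simp only [hd, zero_comp, sub_zero, cellCochain_v, Preadditive.neg_comp, Category.assoc,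
    Preadditive.sub_comp]
  abel

end Step

end Groth.Agent.Lib.Helper5.KFlatG
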