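import Mathlib

set_option autoImplicit false
set_option linter.unusedSectionVars false
set_option linter.unusedVariables false
universe v u
open CategoryTheory CategoryTheory.Limits

namespace Groth.Agent.Lib.Helper5.KFlatG

section Gen

variable {A : Type*} [Category A] [HasZeroMorphisms A] {I : Type*}

lemma isColimit_of_isIso_of_isZero' {G : Discrete I ⥤ A} (c : Cocone G) (i₀ : I)
    (h : IsIso (c.ι.app ⟨i₀⟩)) (hz : ∀ i, i ≠ i₀ → IsZero (G.obj ⟨i⟩)) : Nonempty (IsColimit c) := by
  classical
  refine ⟨{ desc := fun s => inv (c.ι.app ⟨i₀⟩) ≫ s.ι.app ⟨i₀⟩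
            fac := fun s j => ?_
            uniq := fun s m hm => ?_ }⟩
  · obtain ⟨i⟩ := j
    by_cases hi : i = i₀
    · subst hi
      simp
    · exact (hz i hi).eq_of_src _ _
  · rw [← hm ⟨i₀⟩]
    simp

end Gen

variable {A : Type u} [Category.{v} A] [Abelian A]

section ZeroDiff

variable (F : CochainComplex A ℤ) (hd : ∀ i j, F.d i j = 0)

/-- the piece of `F` in degree `n` -/
noncomputable def piece (n : ℤ) : CochainComplex A ℤ :=
  (HomologicalComplex.single A (ComplexShape.up ℤ) n).obj (F.X n)

/-- the inclusion of a piece -/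
noncomputable def ιpiece (n : ℤ) : piece F n ⟶ F :=
  HomologicalComplex.mkHomFromSingle (𝟙 (F.X n)) (fun k _ => by rw [hd, comp_zero])

/-- the cofan of pieces -/
noncomputable def pieceCofan : Cofan (piece F) := Cofan.mk F (ιpiece F hd)

lemma pieceCofan_isColimit : Nonempty (IsColimit (pieceCofan F hd)) := by
  have : ∀ m : ℤ, Nonempty (IsColimit ((HomologicalComplex.eval A
      (ComplexShape.up ℤ) m).mapCocone (pieceCofan F hd))) := by
    intro m
    refine isColimit_of_isIso_of_isZero' _ m ?_ ?_
    · show IsIso ((ιpiece F hd m).f m)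
      dsimp only [ιpiece]
      rw [HomologicalComplex.mkHomFromSingle_f, Category.comp_id]
      infer_instance
    · intro n hn
      exact HomologicalComplex.isZero_single_obj_X (ComplexShape.up ℤ) n (F.X n) m (Ne.symm hn)
  exact ⟨HomologicalComplex.isColimitOfEval _ _ (fun m => (this m).some)⟩

end ZeroDiff

end Groth.Agent.Lib.Helper5.KFlatG
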