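import Mathlib
import Groth.Agent.Lib.Helper5.KFlat.Qis

set_option autoImplicit false
set_option linter.unusedSectionVars false
set_option linter.unusedVariables false
set_option linter.style.haveILetI false
universe w v u
open CategoryTheory CategoryTheory.Limits HomologicalComplex

namespace Groth.Agent.Lib.Helper5.KFlatG

open Groth.Agent.Lib.Helper5.Misc.KFlatGen Groth.Agent.Lib.Helper5.KFlat

variable {A : Type u} [Category.{v} A] [Abelian A] [HasDerivedCategory.{w} A]
  (T : A ⥤ A ⥤ A) [T.PreservesZeroMorphisms] [∀ X, (T.obj X).PreservesZeroMorphisms]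
  [∀ Y, (T.flip.obj Y).Additive]
  [∀ (K₁ K₂ : CochainComplex A ℤ), HasMapBifunctor K₁ K₂ T (ComplexShape.up ℤ)]
  [∀ n : ℤ, HasColimitsOfShape
    (Discrete {i : ℤ × ℤ // ComplexShape.π (ComplexShape.up ℤ) (ComplexShape.up ℤ)
      (ComplexShape.up ℤ) i = n}) A]
  [∀ n : ℤ, HasExactColimitsOfShape
    (Discrete {i : ℤ × ℤ // ComplexShape.π (ComplexShape.up ℤ) (ComplexShape.up ℤ)
      (ComplexShape.up ℤ) i = n}) A]

/-- generic K-flatness with respect to a bifunctor `T` -/
def IsKF (K : CochainComplex A ℤ) : Prop :=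
  ∀ L : CochainComplex A ℤ, (∀ i : ℤ, IsZero (L.homology i)) →
    ∀ i : ℤ, IsZero ((mapBifunctor L K T (ComplexShape.up ℤ)).homology i)

/-- the map induced on total complexes in the first variable -/
noncomputable abbrev m₁ {L₁ L₂ : CochainComplex A ℤ} (f : L₁ ⟶ L₂) (K : CochainComplex A ℤ) :
    mapBifunctor L₁ K T (ComplexShape.up ℤ) ⟶ mapBifunctor L₂ K T (ComplexShape.up ℤ) :=
  (T.map₂CochainComplex.map f).app K

lemma m₁_eq {L₁ L₂ : CochainComplex A ℤ} (f : L₁ ⟶ L₂) (K : CochainComplex A ℤ) :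
    m₁ T f K = mapBifunctorMap f (𝟙 K) T (ComplexShape.up ℤ) := rfl

lemma m₁_comp {L₁ L₂ L₃ : CochainComplex A ℤ} (f : L₁ ⟶ L₂) (g : L₂ ⟶ L₃)
    (K : CochainComplex A ℤ) : m₁ T (f ≫ g) K = m₁ T f K ≫ m₁ T g K := by
  show (T.map₂CochainComplex.map (f ≫ g)).app K = _
  rw [CategoryTheory.Functor.map_comp, NatTrans.comp_app]
  rfl

lemma m₁_id (L K : CochainComplex A ℤ) : m₁ T (𝟙 L) K = 𝟙 _ := by
  have h : (T.map₂CochainComplex.map (𝟙 L)).app K = 𝟙 _ := by
    rw [CategoryTheory.Functor.map_id]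
    rfl
  exact h

/-- the short exact sequence of total complexes attached to a mapping cone in the first variable -/
theorem shortExact_cone₁ {L₁ L₂ : CochainComplex A ℤ} (φ : L₁ ⟶ L₂) (K : CochainComplex A ℤ) :
    ∃ (z : m₁ T (CochainComplex.mappingCone.triangleRotateShortComplex φ).f K ≫
        m₁ T (CochainComplex.mappingCone.triangleRotateShortComplex φ).g K = 0),
      (ShortComplex.mk _ _ z).ShortExact := by
  refine shortExact_tot₁ T K _ (fun p q => ?_)
  exact ((CochainComplex.mappingCone.triangleRotateShortComplexSplitting φ p).map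
    (T.flip.obj (K.X q))).shortExact

/-- tensoring with a K-flat complex preserves quasi-isomorphisms -/
theorem quasiIso_m₁ {K : CochainComplex A ℤ} (hK : IsKF T K) {L₁ L₂ : CochainComplex A ℤ}
    (f : L₁ ⟶ L₂) (hf : QuasiIso f) : QuasiIso (m₁ T f K) := by
  obtain ⟨z₁, h₁⟩ := shortExact_cone₁ T (𝟙 L₁) K
  obtain ⟨z₂, h₂⟩ := shortExact_cone₁ T f K
  have a₁ : ∀ i, IsZero ((mapBifunctor (CochainComplex.mappingCone (𝟙 L₁)) K T
      (ComplexShape.up ℤ)).homology i) := by
    apply hK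
    intro i
    rw [← HomologicalComplex.exactAt_iff_isZero_homology]
    exact (Groth.Agent.Helper5.FlatAcyc.quasiIso_iff_acyclic_cone (𝟙 L₁)).1 inferInstance i
  have a₂ : ∀ i, IsZero ((mapBifunctor (CochainComplex.mappingCone f) K T
      (ComplexShape.up ℤ)).homology i) := by
    apply hK
    intro i
    rw [← HomologicalComplex.exactAt_iff_isZero_homology]
    exact (Groth.Agent.Helper5.FlatAcyc.quasiIso_iff_acyclic_cone f).1 hf i
  let tm := CochainComplex.mappingCone.triangleMap (𝟙 L₁) f (𝟙 L₁) f (by simp)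
  let τ : ShortComplex.mk _ _ z₁ ⟶ ShortComplex.mk _ _ z₂ :=
    { τ₁ := m₁ T f K
      τ₂ := m₁ T tm.hom₃ K
      τ₃ := m₁ T (tm.hom₁⟦(1 : ℤ)⟧') K
      comm₁₂ := by
        have := congrArg (fun g => m₁ T g K) tm.comm₂
        simp only [m₁_comp] at this
        exact this.symm
      comm₂₃ := by
        have := congrArg (fun g => m₁ T g K) tm.comm₃
        simp only [m₁_comp] at this
        exact this.symm }
  rw [quasiIso_iff]
  intro j
  rw [quasiIsoAt_iff_isIso_homologyMap]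
  have hj : (ComplexShape.up ℤ).Rel (j - 1) j := by simp
  have hnat := HomologicalComplex.HomologySequence.δ_naturality τ h₁ h₂ (j - 1) j hj
  haveI i1 : IsIso (h₁.δ (j - 1) j hj) := isIso_δ_of_acyclic h₁ a₁ (j - 1) j hj
  haveI i2 : IsIso (h₂.δ (j - 1) j hj) := isIso_δ_of_acyclic h₂ a₂ (j - 1) j hj
  haveI i3 : IsIso (HomologicalComplex.homologyMap τ.τ₃ (j - 1)) := by
    have : τ.τ₃ = 𝟙 _ := by
      show m₁ T ((shiftFunctor (CochainComplex A ℤ) (1 : ℤ)).map (𝟙 L₁)) K = 𝟙 _
      rw [CategoryTheory.Functor.map_id]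
      exact m₁_id T _ K
    rw [this]
    erw [HomologicalComplex.homologyMap_id]
    exact IsIso.id _
  have : HomologicalComplex.homologyMap (m₁ T f K) j =
      inv (h₁.δ (j - 1) j hj) ≫ HomologicalComplex.homologyMap τ.τ₃ (j - 1) ≫
        h₂.δ (j - 1) j hj := by
    rw [← hnat, IsIso.inv_hom_id_assoc]
    rfl
  rw [this]
  exact IsIso.comp_isIso' (@IsIso.inv_isIso _ _ _ _ _ i1) (IsIso.comp_isIso' i3 i2)

end Groth.Agent.Lib.Helper5.KFlatG
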