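import Mathlib
import Groth.Prelude.Def_TotMap
import Groth.Agent.Lib.Helper5.KFlatG.Qis

set_option autoImplicit false
set_option linter.unusedSectionVars false
set_option linter.unusedVariables false
set_option linter.style.haveILetI false
universe w v u
open CategoryTheory CategoryTheory.Limits HomologicalComplex

namespace Groth.Agent.Lib.Helper5.KFlatG

open Groth.Agent.Lib.Helper5.Misc.KFlatGen Groth.Agent.Lib.Helper5.KFlat

variable {A : Type u} [Category.{v} A] [Abelian A] [HasDerivedCategory.{w} A]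
  (T : A ⥤ A ⥤ A) [T.PreservesZeroMorphisms] [∀ X, (T.obj X).PreservesZeroMorphisms]
  [∀ Y, (T.flip.obj Y).Additive]
  [∀ (K₁ K₂ : CochainComplex A ℤ), HasMapBifunctor K₁ K₂ T (ComplexShape.up ℤ)]
  [∀ n : ℤ, HasColimitsOfShape
    (Discrete {i : ℤ × ℤ // ComplexShape.π (ComplexShape.up ℤ) (ComplexShape.up ℤ)
      (ComplexShape.up ℤ) i = n}) A]
  [∀ n : ℤ, HasExactColimitsOfShape
    (Discrete {i : ℤ × ℤ // ComplexShape.π (ComplexShape.up ℤ) (ComplexShape.up ℤ)
      (ComplexShape.up ℤ) i = n}) A]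
  (σ : T.flip ≅ T)

/-- the map induced on total complexes in the second variable -/
noncomputable abbrev m₂ (K : CochainComplex A ℤ) {L₁ L₂ : CochainComplex A ℤ} (f : L₁ ⟶ L₂) :
    mapBifunctor K L₁ T (ComplexShape.up ℤ) ⟶ mapBifunctor K L₂ T (ComplexShape.up ℤ) :=
  (T.map₂CochainComplex.obj K).map f

lemma m₂_eq (K : CochainComplex A ℤ) {L₁ L₂ : CochainComplex A ℤ} (f : L₁ ⟶ L₂) :
    m₂ T K f = mapBifunctorMap (𝟙 K) f T (ComplexShape.up ℤ) := rfl

lemma m₁_m₂ {K₁ K₂ L₁ L₂ : CochainComplex A ℤ} (f : K₁ ⟶ K₂) (g : L₁ ⟶ L₂) :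
    m₁ T f L₁ ≫ m₂ T K₂ g = m₂ T K₁ g ≫ m₁ T f L₂ :=
  ((T.map₂CochainComplex.map f).naturality g).symm

/-- the symmetry of the total complex -/
noncomputable def braid (K L : CochainComplex A ℤ) :
    mapBifunctor K L T (ComplexShape.up ℤ) ≅ mapBifunctor L K T (ComplexShape.up ℤ) :=
  (TotMap.mapBifunctorNatIso K L (ComplexShape.up ℤ) σ).symm ≪≫
    mapBifunctorFlipIso L K T (ComplexShape.up ℤ)

lemma braid_naturality {K K' L L' : CochainComplex A ℤ} (f : K ⟶ K') (g : L ⟶ L') :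
    mapBifunctorMap f g T (ComplexShape.up ℤ) ≫ (braid T σ K' L').hom =
      (braid T σ K L).hom ≫ mapBifunctorMap g f T (ComplexShape.up ℤ) := by
  dsimp only [braid, Iso.trans_hom, Iso.symm_hom]
  rw [TotMap.mapBifunctorNatIso_inv, TotMap.mapBifunctorNatIso_inv,
    TotMap.mapBifunctorNatMap_naturality_assoc,
    mapBifunctorFlipIso_hom_naturality, Category.assoc]

include σ in
theorem acyc_left {K : CochainComplex A ℤ} (hK : IsKF T K) (M : CochainComplex A ℤ)
    (hM : ∀ i, IsZero (M.homology i)) (i : ℤ) :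
    IsZero ((mapBifunctor K M T (ComplexShape.up ℤ)).homology i) :=
  acyclic_of_iso (braid T σ M K) (hK M hM) i

theorem m₂_eq_braid {K L₁ L₂ : CochainComplex A ℤ} (α : L₁ ⟶ L₂) :
    m₂ T K α = (braid T σ K L₁).hom ≫ m₁ T α K ≫ (braid T σ K L₂).inv := by
  have h := braid_naturality T σ (𝟙 K) α
  rw [← Category.assoc]
  erw [← h]
  rw [Category.assoc, Iso.hom_inv_id, Category.comp_id]
  rfl

theorem m₁_eq_braid {K L₁ L₂ : CochainComplex A ℤ} (α : L₁ ⟶ L₂) :
    m₁ T α K = (braid T σ L₁ K).hom ≫ m₂ T K α ≫ (braid T σ L₂ K).inv := by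
  have h := braid_naturality T σ α (𝟙 K)
  rw [← Category.assoc]
  erw [← h]
  rw [Category.assoc, Iso.hom_inv_id, Category.comp_id]
  rfl

include σ in
theorem quasiIso_m₂ {K : CochainComplex A ℤ} (hK : IsKF T K) {L₁ L₂ : CochainComplex A ℤ}
    (α : L₁ ⟶ L₂) (hα : QuasiIso α) : QuasiIso (m₂ T K α) := by
  rw [m₂_eq_braid T σ]
  haveI := quasiIso_m₁ T hK α hα
  infer_instance

/-- the existence of K-flat resolutions -/
def HasKFRes : Prop :=
  ∀ L : CochainComplex A ℤ, ∃ (P : CochainComplex A ℤ) (p : P ⟶ L), IsKF T P ∧ QuasiIso p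

include σ in
/-- a quasi-isomorphism between K-flat complexes stays one after tensoring with anything -/
theorem quasiIso_m₂_of_isKF (hres : HasKFRes T) {P Q : CochainComplex A ℤ} (α : P ⟶ Q)
    (hP : IsKF T P) (hQ : IsKF T Q) (hα : QuasiIso α) (L : CochainComplex A ℤ) :
    QuasiIso (m₂ T L α) := by
  obtain ⟨L', p, hL', hp⟩ := hres L
  haveI h1 : QuasiIso (m₁ T p P) := quasiIso_m₁ T hP _ hp
  haveI h2 : QuasiIso (m₁ T p Q) := quasiIso_m₁ T hQ _ hp
  haveI h3 : QuasiIso (m₂ T L' α) := quasiIso_m₂ T σ hL' α hα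
  have e : m₁ T p P ≫ m₂ T L α = m₂ T L' α ≫ m₁ T p Q := m₁_m₂ T p α
  haveI : QuasiIso (m₁ T p P ≫ m₂ T L α) := by
    rw [e]
    infer_instance
  exact quasiIso_of_comp_left (m₁ T p P) (m₂ T L α)

include σ in
theorem quasiIso_m₁_of_isKF (hres : HasKFRes T) {P Q : CochainComplex A ℤ} (α : P ⟶ Q)
    (hP : IsKF T P) (hQ : IsKF T Q) (hα : QuasiIso α) (L : CochainComplex A ℤ) :
    QuasiIso (m₁ T α L) := by
  rw [m₁_eq_braid T σ]
  haveI := quasiIso_m₂_of_isKF T σ hres α hP hQ hα L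
  infer_instance

end Groth.Agent.Lib.Helper5.KFlatG
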