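import Mathlib
import Groth.Agent.Lib.Helper5.KFlat.Factor

set_option autoImplicit false
set_option linter.unusedSectionVars false
set_option linter.unusedVariables false
set_option linter.style.haveILetI false
universe w v u
open CategoryTheory CategoryTheory.Limits HomologicalComplex

namespace Groth.Agent.Lib.Helper5.KFlatG

open Groth.Agent.Lib.Helper5.KFlat

variable {A : Type u} [Category.{v} A] [Abelian A] [HasDerivedCategory.{w} A]
  (KF : CochainComplex A ℤ → Prop) (Fl : A → Prop)
  (hres : ∀ L : CochainComplex A ℤ, ∃ (P : CochainComplex A ℤ) (p : P ⟶ L),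
    KF P ∧ (∀ n, Fl (P.X n)) ∧ QuasiIso p ∧ ∀ n, Epi (p.f n))
  (hcone : ∀ {K₁ K₂ : CochainComplex A ℤ} (φ : K₁ ⟶ K₂), KF K₁ → KF K₂ →
    KF (CochainComplex.mappingCone φ))
  (hFlcone : ∀ {K₁ K₂ : CochainComplex A ℤ} (φ : K₁ ⟶ K₂), (∀ n, Fl (K₁.X n)) →
    (∀ n, Fl (K₂.X n)) → ∀ n, Fl ((CochainComplex.mappingCone φ).X n))
  (hbiprod : ∀ K P : CochainComplex A ℤ, KF K → KF P → (∀ n, Fl (P.X n)) → KF (K ⊞ P))
  (hFlbiprod : ∀ (K P : CochainComplex A ℤ) (n : ℤ), Fl (K.X n) → Fl (P.X n) →
    Fl ((K ⊞ P).X n))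

include hres hcone hFlcone hbiprod hFlbiprod in
/-- factorisation of a map out of a K-flat complex through a K-flat resolution of the target -/
theorem exists_factor (K L : CochainComplex A ℤ) (a : K ⟶ L) (hK : KF K) :
    ∃ (N : CochainComplex A ℤ) (b : K ⟶ N) (c : N ⟶ L), KF N ∧
      ((∀ n, Fl (K.X n)) → ∀ n, Fl (N.X n)) ∧ QuasiIso c ∧ a = b ≫ c := by
  obtain ⟨P, p, hP, hPf, hp, hpe⟩ := hres L
  let g : K ⊞ P ⟶ L := biprod.desc a p
  haveI : Epi g := by
    haveI : ∀ i, Epi (g.f i) := by
      intro i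
      have h1 : (biprod.inr : P ⟶ K ⊞ P).f i ≫ g.f i = p.f i := by
        rw [← HomologicalComplex.comp_f, biprod.inr_desc]
      haveI : Epi (p.f i) := hpe i
      exact epi_of_epi_fac h1
    exact HomologicalComplex.epi_of_epi_f g (fun i => inferInstance)
  let S : ShortComplex (CochainComplex A ℤ) := ShortComplex.mk (kernel.ι g) g (kernel.condition g)
  have hS : S.ShortExact :=
    { exact := ShortComplex.exact_kernel g
      mono_f := by dsimp [S]; infer_instance
      epi_g := by dsimp [S]; infer_instance }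
  obtain ⟨Z', q, hZ', hZ'f, hq, _⟩ := hres (kernel g)
  let φ : Z' ⟶ K ⊞ P := q ≫ kernel.ι g
  let N := CochainComplex.mappingCone φ
  let m : N ⟶ CochainComplex.mappingCone S.f :=
    CochainComplex.mappingCone.map φ S.f q (𝟙 _) (by simp [φ, S])
  have hm : QuasiIso m := quasiIso_coneMap _ _ _ _ _ hq inferInstance
  have hd : QuasiIso (CochainComplex.mappingCone.descShortComplex S) :=
    CochainComplex.mappingCone.quasiIso_descShortComplex hS
  refine ⟨N, biprod.inl ≫ CochainComplex.mappingCone.inr φ,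
    m ≫ CochainComplex.mappingCone.descShortComplex S, ?_, ?_, ?_, ?_⟩
  · exact hcone φ hZ' (hbiprod K P hK hP hPf)
  · intro hKf n
    exact hFlcone φ hZ'f (fun i => hFlbiprod K P i (hKf i) (hPf i)) n
  · infer_instance
  · have h1 : CochainComplex.mappingCone.inr φ ≫ m = CochainComplex.mappingCone.inr S.f := by
      have := (CochainComplex.mappingCone.triangleMap φ S.f q (𝟙 _) (by simp [φ, S])).comm₂
      exact this.trans (Category.id_comp _)
    rw [Category.assoc, reassoc_of% h1, CochainComplex.mappingCone.inr_descShortComplex]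
    simp [S, g]

end Groth.Agent.Lib.Helper5.KFlatG
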