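import Mathlib
import Groth.Agent.Lib.Helper5.KFlatG.Res

/-!
# Resolutions with explicit covering data; bounded above resolutions (helper5)

A copy of the construction of `KFlatG/Res` in which the coverings are given as data, so that one can
arrange that zero objects are covered by zero objects; then a complex which is zero above `n₀` gets a
resolution which is zero above `n₀ + 1`.
-/
set_option autoImplicit false
set_option linter.unusedSectionVars false
set_option linter.unusedVariables false
universe w v u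
open CategoryTheory CategoryTheory.Limits HomologicalComplex CochainComplex HomComplex

namespace Groth.Agent.Lib.Helper5.KFlatG

open mappingCone

variable {A : Type u} [Category.{v} A] [Abelian A] [HasDerivedCategory.{w} A]
  [HasColimitsOfShape ℕ A] [HasExactColimitsOfShape ℕ A]

/-- covering data: a functorial-free choice of `Fl`-covers -/
structure CovData (Fl : A → Prop) where
  /-- the cover -/
  obj : A → A
  /-- the covering map -/
  π : ∀ M : A, obj M ⟶ M
  fl : ∀ M : A, Fl (obj M)
  epi : ∀ M : A, Epi (π M)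

namespace B

section Res

variable {Fl : A → Prop} (hcov : CovData Fl)

/-- the chosen cover -/
noncomputable def cov (M : A) : A := hcov.obj M

/-- the chosen covering map -/
noncomputable def covπ (M : A) : cov hcov M ⟶ M := hcov.π M

lemma fl_cov (M : A) : Fl (cov hcov M) := hcov.fl M

instance epi_covπ (M : A) : Epi (covπ hcov M) := hcov.epi M

section Step

variable {P X : CochainComplex A ℤ} (f : P ⟶ X)

/-- the complex of cells -/
noncomputable def cellCx : CochainComplex A ℤ :=
  zcx (fun n => cov hcov ((mappingCone f).cycles (n - 1)))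

lemma cellCx_d (i j : ℤ) : (cellCx hcov f).d i j = 0 := rfl

lemma fl_cellCx (n : ℤ) : Fl ((cellCx hcov f).X n) := fl_cov hcov _

/-- the covering of the cycles -/
noncomputable def cellπ (n : ℤ) : (cellCx hcov f).X n ⟶ (mappingCone f).cycles (n - 1) :=
  covπ hcov _

instance (n : ℤ) : Epi (cellπ hcov f n) := epi_covπ hcov _

/-- the next stage -/
noncomputable def nxCx : CochainComplex A ℤ :=
  nextCx f (cellCx hcov f) (cellCx_d hcov f) (cellπ hcov f)

/-- the map from the next stage -/
noncomputable def nxMap : nxCx hcov f ⟶ X :=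
  nextMap f (cellCx hcov f) (cellCx_d hcov f) (cellπ hcov f)

/-- the inclusion into the next stage -/
noncomputable def nxι : P ⟶ nxCx hcov f :=
  nextι f (cellCx hcov f) (cellCx_d hcov f) (cellπ hcov f)

@[reassoc (attr := simp)]
lemma nxι_nxMap : nxι hcov f ≫ nxMap hcov f = f := nextι_nextMap _ _ _ _

lemma homologyMap_nx (i : ℤ) :
    HomologicalComplex.homologyMap
      (mappingCone.map f (nxMap hcov f) (nxι hcov f) (𝟙 X) (by simp)) i = 0 := by
  obtain ⟨n, rfl⟩ : ∃ n, i = n - 1 := ⟨i + 1, by omega⟩
  exact homologyMap_coneMap f (cellCx hcov f) (cellCx_d hcov f) (cellπ hcov f) n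

end Step

section Init

variable (X : CochainComplex A ℤ)

/-- the complex with zero differential covering `X` termwise (shifted) -/
noncomputable def initG : CochainComplex A ℤ := zcx (fun p => cov hcov (X.X (p + -1)))

lemma initG_d (i j : ℤ) : (initG hcov X).d i j = 0 := rfl

lemma fl_initG (n : ℤ) : Fl ((initG hcov X).X n) := fl_cov hcov _

/-- the covering maps -/
noncomputable def initπ (p : ℤ) : (initG hcov X).X p ⟶ X.X (p + -1) := covπ hcov _

instance (p : ℤ) : Epi (initπ hcov X p) := epi_covπ hcov _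

/-- the chain map `d ∘ π` -/
noncomputable def initβ : initG hcov X ⟶ X where
  f p := initπ hcov X p ≫ X.d (p + -1) p
  comm' i j _ := by
    rw [initG_d, zero_comp, Category.assoc, X.d_comp_d, comp_zero]

/-- the homotopy `π` -/
noncomputable def initα : Cochain (initG hcov X) X (-1) :=
  Cochain.mk (fun p q hpq => initπ hcov X p ≫ (X.XIsoOfEq hpq).hom)

lemma δ_initα : δ (-1) 0 (initα hcov X) = Cochain.ofHom (𝟙 (initG hcov X) ≫ initβ hcov X) := by
  ext p
  rw [δ_v (-1) 0 (by simp) _ p p (add_zero p) (p + -1) (p + 1) (by omega) rfl]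
  simp [initα, initβ, initG_d]

/-- the initial stage -/
noncomputable def initCx : CochainComplex A ℤ := mappingCone (𝟙 (initG hcov X))

/-- the map from the initial stage -/
noncomputable def initMap : initCx hcov X ⟶ X :=
  desc (𝟙 (initG hcov X)) (initα hcov X) (initβ hcov X) (δ_initα hcov X)

lemma epi_initMap_f (n : ℤ) : Epi ((initMap hcov X).f n) := by
  have h := inl_v_desc_f (𝟙 (initG hcov X)) (initα hcov X) (initβ hcov X) (δ_initα hcov X)
    (n + 1) n (by omega)
  have h2 : Epi ((initα hcov X).v (n + 1) n (by omega)) := by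
    simp only [initα, Cochain.mk_v]
    infer_instance
  rw [← h] at h2
  exact @epi_of_epi _ _ _ _ _ ((inl (𝟙 (initG hcov X))).v (n + 1) n (by omega))
    ((initMap hcov X).f n) h2

end Init

section Main

variable (X : CochainComplex A ℤ)

/-- a stage of the construction -/
structure Stage where
  /-- the complex -/
  P : CochainComplex A ℤ
  /-- the map to `X` -/
  f : P ⟶ X

variable {X}

/-- attaching cells -/
noncomputable def Stage.next (s : Stage X) : Stage X := ⟨nxCx hcov s.f, nxMap hcov s.f⟩

variable (X)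

/-- the sequence of stages -/
noncomputable def stage : ℕ → Stage X
  | 0 => ⟨initCx hcov X, initMap hcov X⟩
  | k + 1 => (stage k).next hcov

/-- the transition maps -/
noncomputable def stageι (k : ℕ) : (stage hcov X k).P ⟶ (stage hcov X (k + 1)).P :=
  nxι hcov (stage hcov X k).f

theorem stageι_f (k : ℕ) : stageι hcov X k ≫ (stage hcov X (k + 1)).f = (stage hcov X k).f :=
  nxι_nxMap _ _

/-- the diagram of stages -/
noncomputable def stageD : ℕ ⥤ CochainComplex A ℤ :=
  Functor.ofSequence (stageι hcov X)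

theorem stageD_map_succ (k : ℕ) :
    (stageD hcov X).map (homOfLE (Nat.le_succ k)) = stageι hcov X k :=
  Functor.ofSequence_map_homOfLE_succ _ k

/-- the cocone with point `X` -/
noncomputable def stageCocone : Cocone (stageD hcov X) where
  pt := X
  ι := NatTrans.ofSequence (fun k => (stage hcov X k).f) (fun k => by
    have h1 : (stageD hcov X).map (homOfLE (Nat.le_add_right k 1)) = stageι hcov X k :=
      Functor.ofSequence_map_homOfLE_succ _ k
    rw [h1]
    exact (stageι_f hcov X k).trans (Category.comp_id _).symm)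

/-- the resolution -/
noncomputable def res : CochainComplex A ℤ := colimit (stageD hcov X)

/-- the resolution map -/
noncomputable def resMap : res hcov X ⟶ X := colimit.desc (stageD hcov X) (stageCocone hcov X)

theorem ι_resMap (k : ℕ) :
    colimit.ι (stageD hcov X) k ≫ resMap hcov X = (stage hcov X k).f :=
  colimit.ι_desc _ _

theorem quasiIso_resMap : QuasiIso (resMap hcov X) := by
  refine quasiIso_desc (stageD hcov X) (colimit.cocone _) (colimit.isColimit _)
    (stageCocone hcov X) (fun k i => ?_)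
  have h := homologyMap_nx hcov (stage hcov X k).f i
  have e : (coneTower (stageD hcov X) (stageCocone hcov X)).map (homOfLE (Nat.le_succ k)) =
      mappingCone.map (stage hcov X k).f (nxMap hcov (stage hcov X k).f)
        (nxι hcov (stage hcov X k).f) (𝟙 X) (by simp) := by
    exact map_congr ((stageCocone hcov X).ι.app k) ((stageCocone hcov X).ι.app (k + 1))
      (stageD_map_succ hcov X k) rfl
      (by rw [Category.comp_id, (stageCocone hcov X).w])
  rw [e]
  exact h

theorem epi_stage_f (k : ℕ) (n : ℤ) : Epi ((stage hcov X k).f.f n) := by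
  induction k with
  | zero => exact epi_initMap_f hcov X n
  | succ k ih =>
    have h := congrArg (fun g => g.f n) (stageι_f hcov X k)
    simp only [HomologicalComplex.comp_f] at h
    rw [← h] at ih
    exact @epi_of_epi _ _ _ _ _ ((stageι hcov X k).f n) ((stage hcov X (k + 1)).f.f n) ih

theorem epi_resMap_f (n : ℤ) : Epi ((resMap hcov X).f n) := by
  have h := congrArg (fun g => g.f n) (ι_resMap hcov X 0)
  simp only [HomologicalComplex.comp_f] at h
  have h2 := epi_stage_f hcov X 0 n
  rw [← h] at h2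
  exact @epi_of_epi _ _ _ _ _ ((colimit.ι (stageD hcov X) 0).f n) ((resMap hcov X).f n) h2

variable (KF : CochainComplex A ℤ → Prop)
  (hzero : ∀ G : CochainComplex A ℤ, (∀ i j, G.d i j = 0) → (∀ n, Fl (G.X n)) → KF G)
  (hcone : ∀ {K₁ K₂ : CochainComplex A ℤ} (φ : K₁ ⟶ K₂), KF K₁ → KF K₂ → KF (mappingCone φ))
  (hFlcone : ∀ {K₁ K₂ : CochainComplex A ℤ} (φ : K₁ ⟶ K₂), (∀ n, Fl (K₁.X n)) →
    (∀ n, Fl (K₂.X n)) → ∀ n, Fl ((mappingCone φ).X n))

include hzero hcone hFlcone in
theorem kf_stage (k : ℕ) : KF (stage hcov X k).P ∧ ∀ n, Fl ((stage hcov X k).P.X n) := by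
  induction k with
  | zero =>
    exact ⟨hcone _ (hzero _ (initG_d hcov X) (fl_initG hcov X))
      (hzero _ (initG_d hcov X) (fl_initG hcov X)),
      hFlcone _ (fl_initG hcov X) (fl_initG hcov X)⟩
  | succ k ih =>
    exact ⟨hcone _ (hzero _ (cellCx_d hcov _) (fl_cellCx hcov _)) ih.1,
      hFlcone _ (fl_cellCx hcov _) ih.2⟩

variable
  (hcolim : ∀ D : ℕ ⥤ CochainComplex A ℤ, (∀ k, KF (D.obj k)) → KF (colimit D))
  (hFlcolim : ∀ (D : ℕ ⥤ CochainComplex A ℤ) (n : ℤ), (∀ k, Fl ((D.obj k).X n)) →
    Fl ((colimit D).X n))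

include hcov hzero hcone hFlcone hcolim hFlcolim in
/-- existence of resolutions -/
theorem exists_resolution :
    ∃ (K : CochainComplex A ℤ) (q : K ⟶ X), KF K ∧ (∀ n, Fl (K.X n)) ∧ QuasiIso q ∧
      ∀ n, Epi (q.f n) :=
  ⟨res hcov X, resMap hcov X,
    hcolim _ (fun k => (kf_stage hcov X KF hzero hcone hFlcone k).1),
    fun n => hFlcolim _ n (fun k => (kf_stage hcov X KF hzero hcone hFlcone k).2 n),
    quasiIso_resMap hcov X, epi_resMap_f hcov X⟩

end Main

end Res
section Bdd

variable {Fl : A → Prop} (hcov : CovData Fl) (hz : ∀ M : A, IsZero M → IsZero (hcov.obj M))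

lemma isZero_mappingCone_X {K₁ K₂ : CochainComplex A ℤ} (φ : K₁ ⟶ K₂) (p : ℤ)
    (h1 : IsZero (K₁.X (p + 1))) (h2 : IsZero (K₂.X p)) : IsZero ((mappingCone φ).X p) := by
  refine IsZero.of_iso ?_ (mappingCone.triangleRotateShortComplexSplitting φ p).isoBinaryBiproduct
  rw [IsZero.iff_id_eq_zero]
  apply biprod.hom_ext
  · exact h2.eq_of_tgt _ _
  · exact h1.eq_of_tgt _ _

variable (X : CochainComplex A ℤ) (n₀ : ℤ) (hX : ∀ p, n₀ < p → IsZero (X.X p))

include hz hX in
lemma isZero_initCx_X (p : ℤ) (hp : n₀ + 1 < p) : IsZero ((initCx hcov X).X p) := by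
  apply isZero_mappingCone_X
  · exact hz _ (hX _ (by omega))
  · exact hz _ (hX _ (by omega))

include hz hX in
lemma isZero_nxCx_X {P : CochainComplex A ℤ} (f : P ⟶ X)
    (hP : ∀ p, n₀ + 1 < p → IsZero (P.X p)) (p : ℤ) (hp : n₀ + 1 < p) :
    IsZero ((nxCx hcov f).X p) := by
  apply isZero_mappingCone_X
  · apply hz
    apply IsZero.of_mono ((mappingCone f).iCycles _)
    apply isZero_mappingCone_X
    · exact hP _ (by omega)
    · exact hX _ (by omega)
  · exact hP p hp

include hz hX in
lemma isZero_stage_X (k : ℕ) (p : ℤ) (hp : n₀ + 1 < p) : IsZero ((stage hcov X k).P.X p) := by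
  induction k generalizing p with
  | zero => exact isZero_initCx_X hcov hz X n₀ hX p hp
  | succ k ih => exact isZero_nxCx_X hcov hz X n₀ hX _ (fun q hq => ih q hq) p hp

include hz hX in
lemma isZero_res_X (p : ℤ) (hp : n₀ + 1 < p) : IsZero ((res hcov X).X p) := by
  have hc := isColimitOfPreserves (HomologicalComplex.eval A (ComplexShape.up ℤ) p)
    (colimit.isColimit (stageD hcov X))
  rw [IsZero.iff_id_eq_zero]
  apply hc.hom_ext
  intro k
  exact (isZero_stage_X hcov hz X n₀ hX k p hp).eq_of_src _ _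

end Bdd

/-- existence of resolutions which are zero above `n₀ + 1` for complexes which are zero above `n₀` -/
theorem exists_bdd_resolution {Fl : A → Prop} (hcov : CovData Fl)
    (hz : ∀ M : A, IsZero M → IsZero (hcov.obj M))
    (KF : CochainComplex A ℤ → Prop)
    (hzero : ∀ G : CochainComplex A ℤ, (∀ i j, G.d i j = 0) → (∀ n, Fl (G.X n)) → KF G)
    (hcone : ∀ {K₁ K₂ : CochainComplex A ℤ} (φ : K₁ ⟶ K₂), KF K₁ → KF K₂ → KF (mappingCone φ))
    (hFlcone : ∀ {K₁ K₂ : CochainComplex A ℤ} (φ : K₁ ⟶ K₂), (∀ n, Fl (K₁.X n)) →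
      (∀ n, Fl (K₂.X n)) → ∀ n, Fl ((mappingCone φ).X n))
    (hcolim : ∀ D : ℕ ⥤ CochainComplex A ℤ, (∀ k, KF (D.obj k)) → KF (colimit D))
    (hFlcolim : ∀ (D : ℕ ⥤ CochainComplex A ℤ) (n : ℤ), (∀ k, Fl ((D.obj k).X n)) →
      Fl ((colimit D).X n))
    (X : CochainComplex A ℤ) (n₀ : ℤ) (hX : ∀ p, n₀ < p → IsZero (X.X p)) :
    ∃ (K : CochainComplex A ℤ) (q : K ⟶ X), KF K ∧ (∀ n, Fl (K.X n)) ∧ QuasiIso q ∧
      ∀ p, n₀ + 1 < p → IsZero (K.X p) :=
  ⟨res hcov X, resMap hcov X,
    hcolim _ (fun k => (kf_stage hcov X KF hzero hcone hFlcone k).1),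
    fun n => hFlcolim _ n (fun k => (kf_stage hcov X KF hzero hcone hFlcone k).2 n),
    quasiIso_resMap hcov X, isZero_res_X hcov hz X n₀ hX⟩

end B

end Groth.Agent.Lib.Helper5.KFlatG
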