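import Mathlib

/-!
# Bounded above resolutions of objects by a class with enough covers (helper5)
-/
set_option autoImplicit false
set_option linter.unusedSectionVars false
set_option linter.unusedVariables false
set_option linter.style.haveILetI false
universe v u
open CategoryTheory CategoryTheory.Limits

namespace Groth.Agent.Lib.Helper5.BddRes

variable {A : Type u} [Category.{v} A] [Abelian A]
  {Fl : A → Prop} (hcov : ∀ M : A, ∃ (F : A) (π : F ⟶ M), Fl F ∧ Epi π)

/-- the chosen cover -/
noncomputable def cov (M : A) : A := (hcov M).choose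

/-- the chosen covering map -/
noncomputable def covπ (M : A) : cov hcov M ⟶ M := (hcov M).choose_spec.choose

lemma fl_cov (M : A) : Fl (cov hcov M) := (hcov M).choose_spec.choose_spec.1

instance epi_covπ (M : A) : Epi (covπ hcov M) := (hcov M).choose_spec.choose_spec.2

/-- the next differential -/
noncomputable def dd {X Y : A} (f : X ⟶ Y) : cov hcov (kernel f) ⟶ X :=
  covπ hcov (kernel f) ≫ kernel.ι f

@[reassoc (attr := simp)]
lemma dd_comp {X Y : A} (f : X ⟶ Y) : dd hcov f ≫ f = 0 := by
  simp [dd]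

lemma exact_dd_f {X Y : A} (f : X ⟶ Y) :
    (ShortComplex.mk (dd hcov f) f (dd_comp hcov f)).Exact := by
  let α : ShortComplex.mk (dd hcov f) f (dd_comp hcov f) ⟶
      ShortComplex.mk (kernel.ι f) f (by simp) :=
    { τ₁ := covπ hcov _
      τ₂ := 𝟙 _
      τ₃ := 𝟙 _ }
  have : Epi α.τ₁ := by dsimp [α]; infer_instance
  have : IsIso α.τ₂ := by dsimp [α]; infer_instance
  have : Mono α.τ₃ := by dsimp [α]; infer_instance
  rw [ShortComplex.exact_iff_of_epi_of_isIso_of_mono α]
  apply ShortComplex.exact_of_f_is_kernel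
  apply kernelIsKernel

/-- the resolution as a chain complex -/
noncomputable def resCx (M : A) : ChainComplex A ℕ :=
  ChainComplex.mk' (cov hcov M) (cov hcov (kernel (covπ hcov M))) (dd hcov (covπ hcov M))
    (fun f => ⟨_, dd hcov f, by simp⟩)

lemma resCx_d_1_0 (M : A) : (resCx hcov M).d 1 0 = dd hcov (covπ hcov M) := by
  simp [resCx]

lemma resCx_exactAt_succ (M : A) (n : ℕ) : (resCx hcov M).ExactAt (n + 1) := by
  rw [HomologicalComplex.exactAt_iff' _ (n + 1 + 1) (n + 1) n (by simp) (by simp)]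
  simp only [HomologicalComplex.sc', HomologicalComplex.shortComplexFunctor', resCx,
    ChainComplex.mk', ChainComplex.mk, ChainComplex.of_d]
  match n with
  | 0 => apply exact_dd_f
  | n + 1 => apply exact_dd_f

lemma fl_resCx_X (M : A) (n : ℕ) : Fl ((resCx hcov M).X n) := by
  obtain (_ | _ | _ | n) := n <;> apply fl_cov

/-- the augmentation -/
noncomputable def resπ (M : A) : resCx hcov M ⟶ (ChainComplex.single₀ A).obj M :=
  (ChainComplex.toSingle₀Equiv _ _).symm ⟨covπ hcov M, by
    rw [resCx_d_1_0]; exact dd_comp hcov _⟩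

instance quasiIso_resπ (M : A) : QuasiIso (resπ hcov M) := ⟨fun n => by
  cases n
  · rw [ChainComplex.quasiIsoAt₀_iff, ShortComplex.quasiIso_iff_of_zeros']
    · refine (ShortComplex.exact_and_epi_g_iff_of_iso ?_).2
        ⟨exact_dd_f hcov (covπ hcov M), by dsimp; infer_instance⟩
      exact ShortComplex.isoMk (Iso.refl _) (Iso.refl _) (Iso.refl _)
        (by simp [resCx]; exact (Category.id_comp _).trans (Category.comp_id _).symm)
        (by simp [resπ]; exact (Category.id_comp _).trans (Category.comp_id _).symm)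
    all_goals rfl
  · rw [quasiIsoAt_iff_exactAt']
    · apply resCx_exactAt_succ
    · apply ChainComplex.exactAt_succ_single_obj⟩

/-- the augmentation in degree `0`, typed on the complex -/
noncomputable def ε₀ (M : A) : (resCx hcov M).X 0 ⟶ M := covπ hcov M

instance (M : A) : Epi (ε₀ hcov M) := inferInstanceAs (Epi (covπ hcov M))

lemma resCx_d_comp_ε₀ (M : A) : (resCx hcov M).d 1 0 ≫ ε₀ hcov M = 0 := by
  rw [resCx_d_1_0]; exact dd_comp hcov _

lemma resCx_exact₀ (M : A) :
    (ShortComplex.mk ((resCx hcov M).d 1 0) (ε₀ hcov M) (resCx_d_comp_ε₀ hcov M)).Exact := by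
  have h := exact_dd_f hcov (covπ hcov M)
  have key : ∀ (g : (resCx hcov M).X 1 ⟶ (resCx hcov M).X 0) (hg : g = dd hcov (covπ hcov M))
      (w : g ≫ ε₀ hcov M = 0), (ShortComplex.mk g (ε₀ hcov M) w).Exact := by
    intro g hg w
    subst hg
    exact h
  exact key _ (resCx_d_1_0 hcov M) _

section Extend

open HomologicalComplex

/-- the embedding of `ℕ`-indexed chain complexes in non-positive degrees -/
abbrev emb : ComplexShape.Embedding (ComplexShape.down ℕ) (ComplexShape.up ℤ) :=
  ComplexShape.embeddingUpIntLE 0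

lemma emb_f (n : ℕ) : emb.f n = -(n : ℤ) := by
  show (0 : ℤ) - n = -(n : ℤ)
  omega

lemma emb_f0 : emb.f 0 = 0 := by
  show (0 : ℤ) - ((0 : ℕ) : ℤ) = 0
  simp

lemma emb_f1 : emb.f 1 = -1 := by
  show (0 : ℤ) - ((1 : ℕ) : ℤ) = -1
  simp

lemma emb_f2 : emb.f 2 = -2 := by
  show (0 : ℤ) - ((2 : ℕ) : ℤ) = -2
  simp

/-- the resolution as a cochain complex in non-positive degrees -/
noncomputable def resCo (M : A) : CochainComplex A ℤ := (resCx hcov M).extend emb

instance (M : A) : (resCo hcov M).IsStrictlyLE 0 :=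
  inferInstanceAs (((resCx hcov M).extend emb).IsStrictlySupported (ComplexShape.embeddingUpIntLE 0))

/-- the augmentation -/
noncomputable def resCoπ (M : A) :
    resCo hcov M ⟶ (HomologicalComplex.single A (ComplexShape.up ℤ) 0).obj M :=
  HomologicalComplex.extendMap (resπ hcov M) emb ≫
    (HomologicalComplex.extendSingleIso emb M 0 0 emb_f0).hom

instance quasiIso_resCoπ (M : A) : QuasiIso (resCoπ hcov M) := by
  have h1 : QuasiIso (HomologicalComplex.extendMap (resπ hcov M) emb) :=
    (HomologicalComplex.quasiIso_extendMap_iff (resπ hcov M) emb).2 (quasiIso_resπ hcov M)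
  show QuasiIso (HomologicalComplex.extendMap (resπ hcov M) emb ≫
    (HomologicalComplex.extendSingleIso emb M 0 0 emb_f0).hom)
  infer_instance

variable (hiso : ∀ X Y : A, (X ≅ Y) → Fl X → Fl Y) (hzero : ∀ Z : A, IsZero Z → Fl Z)

include hiso hzero in
lemma fl_resCo_X (M : A) (i : ℤ) : Fl ((resCo hcov M).X i) := by
  by_cases h : ∃ n : ℕ, emb.f n = i
  · obtain ⟨n, hn⟩ := h
    exact hiso _ _ ((resCx hcov M).extendXIso emb hn).symm (fl_resCx_X hcov M n)
  · exact hzero _ ((resCx hcov M).isZero_extend_X emb i (fun n hn => h ⟨n, hn⟩))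

/-- the augmentation in degree `0` -/
noncomputable def resCoε (M : A) : (resCo hcov M).X 0 ⟶ M :=
  ((resCx hcov M).extendXIso emb (i := 0) emb_f0).hom ≫ ε₀ hcov M

instance (M : A) : Epi (resCoε hcov M) := epi_comp _ _

lemma resCo_d_comp_ε (M : A) : (resCo hcov M).d (-1) 0 ≫ resCoε hcov M = 0 := by
  dsimp only [resCo, resCoε]
  rw [(resCx hcov M).extend_d_eq emb (i := 1) (j := 0) emb_f1 emb_f0]
  simp only [Category.assoc, Iso.inv_hom_id_assoc]
  rw [resCx_d_comp_ε₀, comp_zero]
  rfl

lemma resCo_exact (M : A) :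
    (ShortComplex.mk ((resCo hcov M).d (-1) 0) (resCoε hcov M) (resCo_d_comp_ε hcov M)).Exact := by
  refine (ShortComplex.exact_iff_of_iso ?_).2 (resCx_exact₀ hcov M)
  refine ShortComplex.isoMk
    ((resCx hcov M).extendXIso emb (i := 1) emb_f1)
    ((resCx hcov M).extendXIso emb (i := 0) emb_f0) (Iso.refl _) ?_ ?_
  · dsimp only [resCo]
    rw [(resCx hcov M).extend_d_eq emb (i := 1) (j := 0) emb_f1 emb_f0]
    simp only [Category.assoc, Iso.inv_hom_id, Category.comp_id]
  · dsimp only [resCoε, Iso.refl_hom]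
    rw [Category.comp_id]

include hcov hiso hzero in
/-- bounded above resolutions of objects -/
theorem exists_bddRes (M : A) :
    ∃ (E : CochainComplex A ℤ)
      (q : E ⟶ (HomologicalComplex.single A (ComplexShape.up ℤ) 0).obj M)
      (ε : E.X 0 ⟶ M) (hε : E.d (-1) 0 ≫ ε = 0),
      E.IsStrictlyLE 0 ∧ (∀ i, Fl (E.X i)) ∧ QuasiIso q ∧ Epi ε ∧
        (ShortComplex.mk (E.d (-1) 0) ε hε).Exact :=
  ⟨resCo hcov M, resCoπ hcov M, resCoε hcov M, resCo_d_comp_ε hcov M, inferInstance,
    fl_resCo_X hcov hiso hzero M, inferInstance, inferInstance, resCo_exact hcov M⟩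

end Extend

end Groth.Agent.Lib.Helper5.BddRes
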